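import Cfsg.Agent.CocycleCert.ThOne.Data

/-! Generated: checks of the edges. -/

set_option autoImplicit false
set_option Elab.async false
set_option maxRecDepth 100000

namespace Cfsg.Agent.CocycleCert.ThOne

open Cfsg.Agent.CosetCert

theorem var_at0 : allFrom cert.varB 0 1500 = true := by decide +kernel

theorem var_at18000 : allFrom cert.varB 18000 1500 = true := by decide +kernel

theorem var_at36000 : allFrom cert.varB 36000 1500 = true := by decide +kernel

theorem var_at54000 : allFrom cert.varB 54000 1500 = true := by decide +kernel

theorem var_at72000 : allFrom cert.varB 72000 576 = true := by decide +kernel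


end Cfsg.Agent.CocycleCert.ThOne
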