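import Cfsg.Agent.CocycleCert.ThOne.Data

/-! Generated: checks of the edges. -/

set_option autoImplicit false
set_option Elab.async false
set_option maxRecDepth 100000

namespace Cfsg.Agent.CocycleCert.ThOne

open Cfsg.Agent.CosetCert

theorem var_at1500 : allFrom cert.varB 1500 1500 = true := by decide +kernel

theorem var_at19500 : allFrom cert.varB 19500 1500 = true := by decide +kernel

theorem var_at37500 : allFrom cert.varB 37500 1500 = true := by decide +kernel

theorem var_at55500 : allFrom cert.varB 55500 1500 = true := by decide +kernel


end Cfsg.Agent.CocycleCert.ThOne
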